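import Groth.Agent.L16.AffineBC.Pullback
import Groth.Agent.L16.AffineBC.Local
import Groth.Agent.L17.Approx.Pull
import Groth.Agent.L16.EpiFrames
import Groth.Agent.L17.Kun.Cover
import Mathlib.AlgebraicGeometry.Morphisms.LocalIso
import Mathlib.AlgebraicGeometry.Morphisms.Etale

/-!
Vanishing of pulled back morphisms of quasi-coherent modules on affine schemes; affine charts.
-/

set_option autoImplicit false
set_option linter.style.haveILetI false
set_option linter.unusedSectionVars false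
set_option backward.isDefEq.respectTransparency false

universe u

open CategoryTheory CategoryTheory.Limits AlgebraicGeometry TopologicalSpace
open scoped TensorProduct

noncomputable section

namespace Groth.L02.VanishFP

open Groth.L18.Frame (rs pull)

/-- Between affine schemes vanishing is checked on pulled back global sections. -/
theorem pullback_map_eq_zero_iff {D Z : Scheme.{u}} [IsAffine D] [IsAffine Z] (f : D ⟶ Z) {G F : Z.Modules}
    [Coh.IsQCoh G] (σ : G ⟶ F) :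
    (Scheme.Modules.pullback f).map σ = 0 ↔
      ∀ m : Γ(G, ⊤), rs _ (fun _ _ => trivial : (⊤ : D.Opens) ≤ f ⁻¹ᵁ ⊤) (pull f F ⊤ (σ.app ⊤ m)) = 0 := by
  refine ⟨fun h m => ?_, fun h => ?_⟩
  · rw [← Groth.L17.Approx.app_pull, h]
    exact map_zero _
  refine Groth.L16.AffineBC.hom_ext_affine _ _ fun U hU x => ?_
  have e : U ≤ f ⁻¹ᵁ (⊤ : Z.Opens) := fun _ _ => trivial
  letI : Algebra Γ(Z, (⊤ : Z.Opens)) Γ(D, U) := (f.appLE ⊤ U e).hom.toAlgebra
  letI := Module.compHom Γ((Scheme.Modules.pullback f).obj G, U) (f.appLE ⊤ U e).hom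
  haveI : IsScalarTower Γ(Z, (⊤ : Z.Opens)) Γ(D, U) Γ((Scheme.Modules.pullback f).obj G, U) :=
    IsScalarTower.of_algebraMap_smul fun _ _ => rfl
  have hb := Groth.L16.AffineBC.isBaseChange_pull f G (isAffineOpen_top Z) hU e
  refine IsBaseChange.inductionOn hb x _ (map_zero _) (fun m => ?_) (fun a y hy => ?_)
    (fun y z hy hz => by rw [map_add, map_add, hy, hz])
  · show ((Scheme.Modules.pullback f).map σ).app U (rs _ e (pull f G ⊤ m)) = 0
    have hle : U ≤ (⊤ : D.Opens) := le_top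
    rw [Groth.L16.EpiFrames.app_rs, Groth.L17.Approx.app_pull]
    have h2 := congrArg (rs _ hle) (h m)
    rw [Groth.L18.Frame.rs_rs] at h2
    exact h2.trans (map_zero _)
  · refine (Scheme.Modules.Hom.app_smul _ a y).trans ?_
    rw [hy]
    exact smul_zero _

/-- Vanishing after pulling back to the spectrum of an algebra. -/
theorem spec_map_eq_zero_iff {Z : Scheme.{u}} [IsAffine Z] {G F : Z.Modules} [Coh.IsQCoh G] [Coh.IsQCoh F]
    (σ : G ⟶ F) (B : Type u) [CommRing B] [Algebra Γ(Z, ⊤) B] :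
    (Scheme.Modules.pullback (Spec.map (CommRingCat.ofHom (algebraMap Γ(Z, ⊤) B)) ≫ Z.isoSpec.inv)).map σ = 0 ↔
      ∀ m : Γ(G, ⊤), (1 : B) ⊗ₜ[Γ(Z, ⊤)] (show Γ(F, ⊤) from σ.app ⊤ m) = 0 := by
  set D := Spec (CommRingCat.of B)
  set f := Spec.map (CommRingCat.ofHom (algebraMap Γ(Z, ⊤) B)) ≫ Z.isoSpec.inv
  rw [pullback_map_eq_zero_iff]
  refine forall_congr' fun m => ?_
  have e : (⊤ : D.Opens) ≤ f ⁻¹ᵁ (⊤ : Z.Opens) := fun _ _ => trivial
  have hψ : f.appLE ⊤ ⊤ e = CommRingCat.ofHom (algebraMap Γ(Z, ⊤) B) ≫ (Scheme.ΓSpecIso (CommRingCat.of B)).inv := by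
    apply Spec.map_injective
    rw [← cancel_mono (isAffineOpen_top Z).fromSpec,
      (isAffineOpen_top Z).SpecMap_appLE_fromSpec f (isAffineOpen_top D) e, IsAffineOpen.fromSpec_top,
      IsAffineOpen.fromSpec_top, Scheme.isoSpec_Spec_inv, Spec.map_comp, Category.assoc]
  letI : Algebra Γ(Z, (⊤ : Z.Opens)) Γ(D, ⊤) := (f.appLE ⊤ ⊤ e).hom.toAlgebra
  letI := Module.compHom Γ((Scheme.Modules.pullback f).obj F, ⊤) (f.appLE ⊤ ⊤ e).hom
  haveI : IsScalarTower Γ(Z, (⊤ : Z.Opens)) Γ(D, ⊤) Γ((Scheme.Modules.pullback f).obj F, ⊤) :=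
    IsScalarTower.of_algebraMap_smul fun _ _ => rfl
  have hb := Groth.L16.AffineBC.isBaseChange_pull f F (isAffineOpen_top Z) (isAffineOpen_top D) e
  let φ : B ≃ₐ[Γ(Z, (⊤ : Z.Opens))] Γ(D, ⊤) :=
    AlgEquiv.ofRingEquiv (f := (Scheme.ΓSpecIso (CommRingCat.of B)).symm.commRingCatIsoToRingEquiv) fun a =>
      (congr($(hψ).hom a)).symm
  let Φ := (TensorProduct.congr φ.toLinearEquiv (LinearEquiv.refl Γ(Z, (⊤ : Z.Opens)) Γ(F, ⊤))).trans
    (hb.equiv.restrictScalars Γ(Z, (⊤ : Z.Opens)))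
  have hΦ : Φ ((1 : B) ⊗ₜ[Γ(Z, ⊤)] (show Γ(F, ⊤) from σ.app ⊤ m)) =
      rs _ e (pull f F ⊤ (σ.app ⊤ m)) := by
    show hb.equiv (φ 1 ⊗ₜ[Γ(Z, (⊤ : Z.Opens))] (show Γ(F, ⊤) from σ.app ⊤ m)) = _
    rw [map_one, hb.equiv_tmul, one_smul]
    rfl
  exact (Iff.of_eq (congrArg (· = 0) hΦ.symm)).trans Φ.map_eq_zero_iff

/-- A quasi-compact scheme has an affine chart which is a local isomorphism. -/
theorem exists_localIso_chart (Y : Scheme.{u}) [CompactSpace Y] :
    ∃ (Z : Scheme.{u}) (_ : IsAffine Z) (π : Z ⟶ Y), IsLocalIso π ∧ Surjective π := by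
  let 𝒰 := Y.affineCover.finiteSubcover
  haveI : ∀ x, IsAffine (𝒰.X x) := fun x => inferInstanceAs (IsAffine (Y.affineCover.X _))
  refine ⟨∐ fun x => 𝒰.X x, inferInstance, Sigma.desc fun x => 𝒰.f x,
    IsZariskiLocalAtSource.sigmaDesc fun _ => IsZariskiLocalAtSource.of_isOpenImmersion _,
    Surjective.sigmaDesc_of_union_range_eq_univ 𝒰.iUnion_range⟩

theorem isIso_stalkMap {Z Y : Scheme.{u}} (π : Z ⟶ Y) [IsLocalIso π] (z : Z) : IsIso (π.stalkMap z) := by
  obtain ⟨U, hz, hU⟩ := IsLocalIso.exists_isOpenImmersion (f := π) z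
  haveI : IsIso ((U.ι ≫ π).stalkMap ⟨z, hz⟩) := inferInstance
  rw [Scheme.Hom.stalkMap_comp] at this
  exact @IsIso.of_isIso_comp_right _ _ _ _ _ (π.stalkMap z) (U.ι.stalkMap ⟨z, hz⟩) inferInstance this

theorem etale_of_isLocalIso {Z Y : Scheme.{u}} (π : Z ⟶ Y) [h : IsLocalIso π] : Etale π :=
  IsLocalIso.le_of_isZariskiLocalAtSource @Etale _ _ _ h

/-- Flatness over the base is kept by local isomorphisms. -/
theorem isFlatOver_pullback_localIso {Z Y S : Scheme.{u}} (π : Z ⟶ Y) [IsLocalIso π] (q : Y ⟶ S) {F : Y.Modules}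
    (h : FlatMod.IsFlatOver q F) : FlatMod.IsFlatOver (π ≫ q) ((Scheme.Modules.pullback π).obj F) := fun z => by
  haveI := isIso_stalkMap π z
  exact Groth.L17.Kun.isFlatOverAt_pullback_of_isIso π q F z (h (π z))

end Groth.L02.VanishFP
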