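import Groth.Agent.L02.VanishFP.Content
import Groth.Agent.L02.VanishFP.Affine
import Groth.Agent.L02.Quot.VanishGlue
import Groth.Agent.L20.RG.PureProj
import Groth.Agent.L07.ModSep.Scheme
import Groth.Agent.L19.LimMod.Zero
import Mathlib.AlgebraicGeometry.Morphisms.UniversallyOpen

/-!
Around a point of an affine base, the vanishing of a morphism into a flat module on a proper scheme is
given by an ideal, after an étale localisation.
-/

set_option autoImplicit false
set_option linter.style.haveILetI false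
set_option linter.unusedSectionVars false
set_option backward.isDefEq.respectTransparency false

universe u

open CategoryTheory CategoryTheory.Limits AlgebraicGeometry TopologicalSpace
open scoped TensorProduct

noncomputable section

namespace Groth.L02.VanishFP

open Groth.L02.Quot.ZeroHom (map_comp_eq_zero_iff map_congr_eq_zero_iff eq_zero_of_flat_cover)
open Groth.L02.Quot.Vanish (map_isPullback_eq_zero_iff)

variable {Y S : Scheme.{u}} (q : Y ⟶ S) {G F : Y.Modules} (σ : G ⟶ F)

/-- The pullback of `σ` to the base change along `g` vanishes. -/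
def Van {T : Scheme.{u}} (g : T ⟶ S) : Prop := (Scheme.Modules.pullback (pullback.fst q g)).map σ = 0

theorem van_comp {T T' : Scheme.{u}} (k : T' ⟶ T) (g : T ⟶ S) (h : Van q σ g) : Van q σ (k ≫ g) := by
  have sq := (IsPullback.of_hasPullback (pullback.snd q g) k).paste_horiz (IsPullback.of_hasPullback q g)
  refine (map_isPullback_eq_zero_iff q σ sq).1 ?_
  rw [map_comp_eq_zero_iff, show (Scheme.Modules.pullback (pullback.fst q g)).map σ = 0 from h, Functor.map_zero]

theorem van_of_cover {ι : Type u} {T : Scheme.{u}} {T' : ι → Scheme.{u}} (k : ∀ i, T' i ⟶ T) [∀ i, Flat (k i)]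
    (hk : ∀ t : T, ∃ i, t ∈ Set.range (k i)) (g : T ⟶ S) (h : ∀ i, Van q σ (k i ≫ g)) : Van q σ g := by
  refine eq_zero_of_flat_cover (fun i => pullback.fst (pullback.snd q g) (k i)) (fun y => ?_) _ fun i => ?_
  · obtain ⟨i, b, hb⟩ := hk (pullback.snd q g y)
    obtain ⟨z, hz, -⟩ := Scheme.Pullback.exists_preimage_pullback (f := pullback.snd q g) (g := k i) y b hb.symm
    exact ⟨i, z, hz⟩
  · have sq := (IsPullback.of_hasPullback (pullback.snd q g) (k i)).paste_horiz (IsPullback.of_hasPullback q g)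
    exact (map_comp_eq_zero_iff _ _ σ).1 ((map_isPullback_eq_zero_iff q σ sq).2 (h i))

attribute [local instance] Algebra.TensorProduct.rightAlgebra

/-- Base change of an element of `S' ⊗ N` along `R' → T`. -/
theorem tmul_eq_zero_iff {R' S₀ S' T N : Type u} [CommRing R'] [CommRing S₀] [CommRing S'] [CommRing T]
    [Algebra R' S'] [Algebra S₀ S'] [Algebra R' T] [SMulCommClass S₀ R' S'] [AddCommGroup N] [Module S₀ N] (x : N) :
    (1 : S' ⊗[R'] T) ⊗ₜ[S₀] x = 0 ↔ (1 : T) ⊗ₜ[R'] ((1 : S') ⊗ₜ[S₀] x) = 0 := by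
  haveI : IsScalarTower S₀ S' (S' ⊗[R'] T) := TensorProduct.isScalarTower_left
  haveI : IsScalarTower R' S' (S' ⊗[S₀] N) := TensorProduct.isScalarTower_left
  let C := S' ⊗[R'] T
  let e₁ := TensorProduct.AlgebraTensorModule.cancelBaseChange S₀ S' C C N
  let e₂ := TensorProduct.comm S' C (S' ⊗[S₀] N)
  let e₃ := TensorProduct.AlgebraTensorModule.cancelBaseChange R' S' S' (S' ⊗[S₀] N) T
  let e₄ := TensorProduct.comm R' (S' ⊗[S₀] N) T
  let e : C ⊗[S₀] N ≃+ T ⊗[R'] (S' ⊗[S₀] N) :=
    e₁.symm.toAddEquiv.trans (e₂.toAddEquiv.trans (e₃.toAddEquiv.trans e₄.toAddEquiv))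
  have he : e ((1 : C) ⊗ₜ[S₀] x) = (1 : T) ⊗ₜ[R'] ((1 : S') ⊗ₜ[S₀] x) := by
    simp [e, e₁, e₂, e₃, e₄, C, Algebra.TensorProduct.one_def]
  rw [← he]
  exact e.map_eq_zero_iff.symm

variable [IsAffine S]

/-- The point of the base as a morphism from a spectrum over the sections. -/
abbrev pt {T : Type u} [CommRing T] (φ : Γ(S, ⊤) →+* T) : Spec (CommRingCat.of T) ⟶ S :=
  Spec.map (CommRingCat.ofHom φ) ≫ S.isoSpec.inv

set_option maxHeartbeats 4000000 in
theorem exists_etale_content [IsProper q] [LocallyOfFinitePresentation q] [Coh.IsQCoh G] (hF : CohB1.IsFP F)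
    (hFfl : FlatMod.IsFlatOver q F) (p : S) :
    ∃ (L : Type u) (_ : CommRing L) (_ : Algebra Γ(S, ⊤) L) (_ : Algebra.Etale Γ(S, ⊤) L) (K : Ideal L),
      p ∈ Set.range (pt (algebraMap Γ(S, ⊤) L)) ∧
      ∀ (T : Type u) [CommRing T] (ψ : L →+* T),
        Van q σ (pt (ψ.comp (algebraMap Γ(S, ⊤) L))) ↔ K ≤ RingHom.ker ψ := by
  classical
  haveI : Coh.IsQCoh F := Groth.L17.Strat.isQCoh_of_isFP F hF
  haveI : CompactSpace Y := QuasiCompact.compactSpace_of_compactSpace q
  obtain ⟨Z, _, π, _, _⟩ := exists_localIso_chart Y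
  haveI : Etale π := etale_of_isLocalIso π
  let R := Γ(S, ⊤)
  let S₀ := Γ(Z, ⊤)
  have e : (⊤ : Z.Opens) ≤ (π ≫ q) ⁻¹ᵁ (⊤ : S.Opens) := fun _ _ => trivial
  letI : Algebra R S₀ := ((π ≫ q).appLE ⊤ ⊤ e).hom.toAlgebra
  haveI : LocallyOfFinitePresentation (π ≫ q) := inferInstance
  haveI : Algebra.FinitePresentation R S₀ :=
    RingHom.finitePresentation_algebraMap.1
      ((π ≫ q).finitePresentation_appLE (isAffineOpen_top S) (isAffineOpen_top Z) e)
  let GZ := (Scheme.Modules.pullback π).obj G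
  let FZ := (Scheme.Modules.pullback π).obj F
  let σZ := (Scheme.Modules.pullback π).map σ
  haveI : Coh.IsQCoh GZ := Groth.L16.AffineBC.isQCoh_pullback π G
  haveI : Coh.IsQCoh FZ := Groth.L16.AffineBC.isQCoh_pullback π F
  let N := Γ(FZ, ⊤)
  haveI : Module.FinitePresentation S₀ N :=
    Groth.L20.ModStalk.finitePresentation_sections FZ (Groth.L19.LimMod.isFP_pullback' π F hF) (isAffineOpen_top Z)
  letI : Module R N := Module.compHom N (algebraMap R S₀)
  haveI : IsScalarTower R S₀ N := IsScalarTower.of_algebraMap_smul fun _ _ => rfl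
  haveI : Module.Flat R N := Groth.L07.ModSep.flat_sections (π ≫ q) FZ (isFlatOver_pullback_localIso π q hFfl)
    (isAffineOpen_top S) (isAffineOpen_top Z) e
  have hZ : Z.isoSpec.inv ≫ π ≫ q = Spec.map (CommRingCat.ofHom (algebraMap R S₀)) ≫ S.isoSpec.inv := by
    rw [← IsAffineOpen.fromSpec_top, ← IsAffineOpen.fromSpec_top]
    exact ((isAffineOpen_top S).SpecMap_appLE_fromSpec (π ≫ q) (isAffineOpen_top Z) e).symm
  let pI := (S.isoSpec.hom p).asIdeal
  obtain ⟨R', S', _, _, _, _, _, _, _, _, p', _, hR', hS', hpts, hproj⟩ :=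
    Groth.L20.RG.exists_projective_cover_over (R := R) (S := S₀) N pI
      fun (Q : Ideal S₀) (_ : Q.IsPrime) _ => Groth.L20.FibreCrit.flat_localizedModule_of_flat Q.primeCompl
  haveI := hR'.1
  haveI := hS'
  haveI : SMulCommClass S₀ R' S' := ⟨fun s a c => by simp only [Algebra.smul_def]; ring⟩
  haveI : IsScalarTower R' S' (S' ⊗[S₀] N) := TensorProduct.isScalarTower_left
  haveI : Module.Projective R' (S' ⊗[S₀] N) := by
    haveI := hproj
    exact Module.Projective.of_equiv
      ({ RestrictScalars.addEquiv R' S' (S' ⊗[S₀] N) with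
          map_smul' := fun r x => by
            show RestrictScalars.addEquiv R' S' _ (r • x) = r • RestrictScalars.addEquiv R' S' _ x
            rw [RestrictScalars.addEquiv_map_smul, algebraMap_smul] } :
        RestrictScalars R' S' (S' ⊗[S₀] N) ≃ₗ[R'] S' ⊗[S₀] N)
  obtain ⟨K, hK⟩ := exists_content (A := R') (S' ⊗[S₀] N)
    (Set.range fun m : Γ(GZ, ⊤) => (1 : S') ⊗ₜ[S₀] (show N from σZ.app ⊤ m))
  -- the geometry over the étale neighbourhood
  let g' := pt (algebraMap R R')
  let eD : Spec (CommRingCat.of S') ⟶ Z := Spec.map (CommRingCat.ofHom (algebraMap S₀ S')) ≫ Z.isoSpec.inv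
  let d : Spec (CommRingCat.of S') ⟶ Spec (CommRingCat.of R') := Spec.map (CommRingCat.ofHom (algebraMap R' S'))
  let B' := R' ⊗[R] S₀
  let a : Spec (CommRingCat.of B') ⟶ Z :=
    Spec.map (CommRingCat.ofHom (algebraMap S₀ B')) ≫ Z.isoSpec.inv
  let b : Spec (CommRingCat.of B') ⟶ Spec (CommRingCat.of R') := Spec.map (CommRingCat.ofHom (algebraMap R' B'))
  have hsq : IsPullback a b (π ≫ q) g' := by
    refine IsPullback.of_iso (isPullback_SpecMap_of_isPushout _ _ _ _ (CommRingCat.isPushout_tensorProduct R R' S₀).flip)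
      (Iso.refl _) Z.isoSpec.symm (Iso.refl _) S.isoSpec.symm ?_ ?_ ?_ ?_
    · simp only [Iso.refl_hom, Category.id_comp, Iso.symm_hom]
      rfl
    · simp only [Iso.refl_hom, Category.id_comp, Category.comp_id]
      rfl
    · exact hZ.symm
    · simp only [Iso.refl_hom, Category.id_comp, Iso.symm_hom]
      rfl
  let π' : Spec (CommRingCat.of B') ⟶ pullback q g' := pullback.lift (a ≫ π) b (by rw [Category.assoc]; exact hsq.w)
  have hπ' : IsPullback a π' π (pullback.fst q g') := by
    refine IsPullback.of_bot ?_ (by rw [pullback.lift_fst]) (IsPullback.of_hasPullback q g')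
    rw [pullback.lift_snd]
    exact hsq
  haveI : Etale π' := MorphismProperty.of_isPullback (P := @Etale) hπ' inferInstance
  haveI : Etale (Spec.map (CommRingCat.ofHom (algebraMap R R'))) :=
    (HasRingHomProperty.Spec_iff (P := @Etale)).2 (RingHom.etale_algebraMap.2 inferInstance)
  haveI : Etale (Spec.map (CommRingCat.ofHom (algebraMap S₀ S'))) :=
    (HasRingHomProperty.Spec_iff (P := @Etale)).2 (RingHom.etale_algebraMap.2 inferInstance)
  haveI : Etale g' := inferInstance
  haveI : Etale eD := inferInstance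
  haveI : Etale a := MorphismProperty.of_isPullback (P := @Etale) hsq.flip inferInstance
  let φ : B' →ₐ[R] S' := Algebra.TensorProduct.productMap (IsScalarTower.toAlgHom R R' S') (IsScalarTower.toAlgHom R S₀ S')
  let sφ : Spec (CommRingCat.of S') ⟶ Spec (CommRingCat.of B') := Spec.map (CommRingCat.ofHom φ.toRingHom)
  have hφ₁ : sφ ≫ a = eD := by
    rw [← Category.assoc, ← Spec.map_comp, ← CommRingCat.ofHom_comp]
    congr 3
    refine RingHom.ext fun s => ?_
    show φ ((1 : R') ⊗ₜ[R] s) = _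
    exact (Algebra.TensorProduct.productMap_apply_tmul _ _ _ _).trans (by rw [map_one, one_mul]; rfl)
  have hφ₂ : sφ ≫ b = d := by
    rw [← Spec.map_comp, ← CommRingCat.ofHom_comp]
    congr 2
    refine RingHom.ext fun s => ?_
    show φ (s ⊗ₜ[R] (1 : S₀)) = _
    exact (Algebra.TensorProduct.productMap_apply_tmul _ _ _ _).trans (by rw [map_one, mul_one]; rfl)
  haveI : Etale sφ := MorphismProperty.of_postcomp (W := @Etale) (W' := @Etale) sφ a inferInstance (by rw [hφ₁]; infer_instance)
  let w : Spec (CommRingCat.of S') ⟶ pullback q g' := sφ ≫ π'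
  haveI : Etale w := inferInstance
  have hw₁ : w ≫ pullback.fst q g' = eD ≫ π := by rw [Category.assoc, pullback.lift_fst, ← Category.assoc, hφ₁]
  have hw₂ : w ≫ pullback.snd q g' = d := by rw [Category.assoc, pullback.lift_snd, hφ₂]
  haveI : pI.IsPrime := (S.isoSpec.hom p).isPrime
  let p'' : PrimeSpectrum R' := ⟨p', inferInstance⟩
  have hp'' : (Spec.map (CommRingCat.ofHom (algebraMap R R'))) p'' = S.isoSpec.hom p :=
    PrimeSpectrum.ext hR'.2.1.over.symm
  have hgp : g' p'' = p := by
    show (Spec.map (CommRingCat.ofHom (algebraMap R R')) ≫ S.isoSpec.inv) p'' = p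
    rw [Scheme.Hom.comp_apply, hp'']
    exact (Scheme.Hom.comp_apply _ _ _).symm.trans (by rw [Iso.hom_inv_id]; rfl)
  have hcov : ∀ y : ↥(pullback q g'), pullback.snd q g' y = p'' → y ∈ Set.range w := by
    intro y hy
    obtain ⟨z, hz⟩ := π.surjective (pullback.fst q g' y)
    obtain ⟨v, hv₁, hv₂⟩ := Scheme.exists_preimage_of_isPullback hπ' z y hz
    have hv : b v = p'' := by rw [← hy, ← hv₂, ← Scheme.Hom.comp_apply, pullback.lift_snd]
    let Q : Ideal B' := (show PrimeSpectrum B' from v).asIdeal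
    haveI : Q.IsPrime := (show PrimeSpectrum B' from v).isPrime
    have hQ' : Q.LiesOver p' := ⟨(congrArg PrimeSpectrum.asIdeal hv).symm⟩
    let Q₀ : Ideal S₀ := Q.comap (algebraMap S₀ B')
    haveI hQ₀ : Q₀.LiesOver pI := ⟨by
      rw [Ideal.under_def, Ideal.comap_comap, ← IsScalarTower.algebraMap_eq, IsScalarTower.algebraMap_eq R R' B',
        ← Ideal.comap_comap]
      rw [← show p' = Q.comap (algebraMap R' B') from hQ'.over]
      exact hR'.2.1.over⟩
    obtain ⟨x, hx, hxq, hxp⟩ := hpts Q₀ inferInstance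
    haveI := hx
    obtain ⟨Q₁, _, -, -, huniq⟩ := Groth.L20.RG.exists_point_of_isPushout (B := R) (A := S₀) (B' := R') (A' := B')
      pI Q₀ p' hR'.2
    have h1 : Q = Q₁ := huniq Q hQ' ⟨rfl⟩
    have h2 : x.comap φ.toRingHom = Q₁ := by
      refine huniq _ ⟨?_⟩ ⟨?_⟩
      · rw [Ideal.under_def, Ideal.comap_comap]
        refine hxp.symm.trans ?_
        congr 1
        refine RingHom.ext fun s => ?_
        show _ = φ (s ⊗ₜ[R] (1 : S₀))
        symm
        exact (Algebra.TensorProduct.productMap_apply_tmul _ _ _ _).trans (by rw [map_one, mul_one]; rfl)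
      · rw [Ideal.under_def, Ideal.comap_comap]
        refine hxq.symm.trans ?_
        congr 1
        refine RingHom.ext fun s => ?_
        show _ = φ ((1 : R') ⊗ₜ[R] s)
        symm
        exact (Algebra.TensorProduct.productMap_apply_tmul _ _ _ _).trans (by rw [map_one, one_mul]; rfl)
    refine ⟨(⟨x, hx⟩ : PrimeSpectrum S'), ?_⟩
    rw [Scheme.Hom.comp_apply, ← hv₂]
    exact congrArg π' (PrimeSpectrum.ext (h2.trans h1.symm))
  -- shrink
  let Ω : Set ↥(pullback q g') := Set.range w
  have hΩ : IsOpen Ω := w.isOpenMap.isOpen_range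
  have hC : IsClosed (pullback.snd q g' '' Ωᶜ) := (pullback.snd q g').isClosedMap _ hΩ.isClosed_compl
  have hpC : p'' ∉ pullback.snd q g' '' Ωᶜ := fun ⟨y, hy, hyp⟩ => hy (hcov y hyp)
  obtain ⟨-, ⟨r, rfl⟩, hrp, hr⟩ :=
    PrimeSpectrum.isTopologicalBasis_basic_opens.exists_subset_of_mem_open hpC hC.isOpen_compl
  haveI : Algebra.Etale R' (Localization.Away r) := Algebra.Etale.of_isLocalizationAway r
  haveI : Algebra.Etale R (Localization.Away r) := Algebra.Etale.comp R R' (Localization.Away r)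
  refine ⟨Localization.Away r, inferInstance, inferInstance, inferInstance,
    K.map (algebraMap R' (Localization.Away r)), ?_, fun T _ ψ => ?_⟩
  · have hmem : p'' ∈ Set.range (PrimeSpectrum.comap (algebraMap R' (Localization.Away r))) := by
      rw [PrimeSpectrum.localization_away_comap_range (Localization.Away r) r]
      exact hrp
    obtain ⟨x, hx⟩ := hmem
    refine ⟨x, ?_⟩
    rw [← hgp, ← hx]
    show (Spec.map (CommRingCat.ofHom (algebraMap R (Localization.Away r))) ≫ S.isoSpec.inv) x = g' _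
    rw [IsScalarTower.algebraMap_eq R R' (Localization.Away r), CommRingCat.ofHom_comp, Spec.map_comp, Category.assoc,
      Scheme.Hom.comp_apply]
    rfl
  letI : Algebra R' T := (ψ.comp (algebraMap R' (Localization.Away r))).toAlgebra
  have ht : pt (ψ.comp (algebraMap R (Localization.Away r))) =
      Spec.map (CommRingCat.ofHom (algebraMap R' T)) ≫ g' := by
    rw [IsScalarTower.algebraMap_eq R R' (Localization.Away r), ← RingHom.comp_assoc]
    simp only [pt, g', RingHom.algebraMap_toAlgebra, CommRingCat.ofHom_comp, Spec.map_comp, Category.assoc]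
  let t : Spec (CommRingCat.of T) ⟶ Spec (CommRingCat.of R') := Spec.map (CommRingCat.ofHom (algebraMap R' T))
  let P₀ := Spec (CommRingCat.of (S' ⊗[R'] T))
  let i₁ : P₀ ⟶ Spec (CommRingCat.of S') :=
    Spec.map (CommRingCat.ofHom (Algebra.TensorProduct.includeLeftRingHom (R := R') (A := S') (B := T)))
  let i₂ : P₀ ⟶ Spec (CommRingCat.of T) :=
    Spec.map (CommRingCat.ofHom (Algebra.TensorProduct.includeRight (R := R') (A := S') (B := T)).toRingHom)
  have hD : IsPullback i₁ i₂ d t :=
    isPullback_SpecMap_of_isPushout _ _ _ _ (CommRingCat.isPushout_tensorProduct R' S' T)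
  let j : pullback q (t ≫ g') ⟶ pullback q g' :=
    pullback.lift (pullback.fst q (t ≫ g')) (pullback.snd q (t ≫ g') ≫ t) (by rw [Category.assoc]; exact pullback.condition)
  have hj : IsPullback j (pullback.snd q (t ≫ g')) (pullback.snd q g') t := by
    refine IsPullback.of_right ?_ (pullback.lift_snd _ _ _) (IsPullback.of_hasPullback q g')
    rw [pullback.lift_fst]
    exact IsPullback.of_hasPullback q (t ≫ g')
  let κ : P₀ ⟶ pullback q (t ≫ g') := pullback.lift (i₁ ≫ eD ≫ π) i₂ (by
    rw [← hw₁, Category.assoc, Category.assoc, pullback.condition, reassoc_of% hw₂, reassoc_of% hD.w])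
  have hκj : κ ≫ j = i₁ ≫ w := by
    apply pullback.hom_ext
    · rw [Category.assoc κ, pullback.lift_fst, pullback.lift_fst, Category.assoc i₁ w, hw₁]
    · rw [Category.assoc, pullback.lift_snd, pullback.lift_snd_assoc, Category.assoc, hw₂, hD.w]
  have hκ : IsPullback i₁ κ w j := by
    refine IsPullback.of_bot ?_ hκj.symm hj
    rw [hw₂, pullback.lift_snd]
    exact hD
  haveI : Flat κ := MorphismProperty.of_isPullback (P := @Flat) hκ inferInstance
  have hκs : ∀ y, ∃ _ : PUnit.{u+1}, y ∈ Set.range κ := fun y => by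
    have hy : j y ∈ Ω := by
      by_contra hy
      refine (show pullback.snd q g' (j y) ∉ (PrimeSpectrum.basicOpen r : Set (PrimeSpectrum R')) from
        fun h => hr h ⟨j y, hy, rfl⟩) ?_
      rw [← Scheme.Hom.comp_apply, pullback.lift_snd, Scheme.Hom.comp_apply]
      show r ∉ ((t (pullback.snd q (t ≫ g') y) : PrimeSpectrum R')).asIdeal
      intro hmem
      have hunit : IsUnit (algebraMap R' T r) := (IsLocalization.Away.algebraMap_isUnit r).map ψ
      exact (show PrimeSpectrum T from pullback.snd q (t ≫ g') y).isPrime.ne_top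
        (Ideal.eq_top_of_isUnit_mem _ hmem hunit)
    obtain ⟨x, hx⟩ := hy
    obtain ⟨v, -, hv⟩ := Scheme.exists_preimage_of_isPullback hκ x y hx
    exact ⟨⟨⟩, v, hv⟩
  rw [ht]
  have key : Van q σ (t ≫ g') ↔ (Scheme.Modules.pullback (i₁ ≫ eD)).map σZ = 0 := by
    rw [← map_comp_eq_zero_iff, map_congr_eq_zero_iff (show (i₁ ≫ eD) ≫ π = κ ≫ pullback.fst q (t ≫ g') by
      rw [pullback.lift_fst, Category.assoc]), map_comp_eq_zero_iff]
    refine ⟨fun h => ?_, fun h => eq_zero_of_flat_cover (fun _ : PUnit.{u+1} => κ) hκs _ fun _ => h⟩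
    rw [show (Scheme.Modules.pullback (pullback.fst q (t ≫ g'))).map σ = 0 from h, Functor.map_zero]
  haveI : IsScalarTower S₀ S' (S' ⊗[R'] T) := TensorProduct.isScalarTower_left
  have halg : i₁ ≫ eD = Spec.map (CommRingCat.ofHom (algebraMap S₀ (S' ⊗[R'] T))) ≫ Z.isoSpec.inv := by
    rw [IsScalarTower.algebraMap_eq S₀ S' (S' ⊗[R'] T), CommRingCat.ofHom_comp, Spec.map_comp, Category.assoc]
    rfl
  rw [key, halg, spec_map_eq_zero_iff σZ (S' ⊗[R'] T), Ideal.map_le_iff_le_comap, RingHom.comap_ker]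
  refine (forall_congr' fun m => tmul_eq_zero_iff _).trans ?_
  exact (Set.forall_mem_range (p := fun x => (1 : T) ⊗ₜ[R'] x = 0)).symm.trans (hK T)

end Groth.L02.VanishFP
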