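import Groth.Agent.L02.VanishFP.Chart
import Groth.Agent.L11.Magnet.ClosedSub

/-!
The closed subscheme of the base over which a morphism into a flat module on a proper scheme vanishes.
-/

set_option autoImplicit false
set_option linter.style.haveILetI false
set_option linter.unusedSectionVars false
set_option backward.isDefEq.respectTransparency false

universe u

open CategoryTheory CategoryTheory.Limits AlgebraicGeometry TopologicalSpace
open scoped TensorProduct

noncomputable section

namespace Groth.L02.VanishFP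

variable {Y S : Scheme.{u}} (q : Y ⟶ S) {G F : Y.Modules} (σ : G ⟶ F)

theorem van_of_openCover {T : Scheme.{u}} (g : T ⟶ S)
    (h : ∀ i, Van q σ (T.affineCover.f i ≫ g)) : Van q σ g :=
  van_of_cover q σ (fun i => T.affineCover.f i) (fun t => ⟨_, T.affineCover.covers t⟩) g h

/-- A closed condition given by an ideal is represented by the closed subscheme of that ideal. -/
theorem exists_closed_of_ideal {A : CommRingCat.{u}} (a : Spec A ⟶ S) (J : Ideal A)
    (hJ : ∀ (T : Type u) [CommRing T] (φ : A →+* T),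
      Van q σ (Spec.map (CommRingCat.ofHom φ) ≫ a) ↔ J ≤ RingHom.ker φ) :
    ∃ (Z : Scheme.{u}) (c : Z ⟶ Spec A), IsClosedImmersion c ∧
      ∀ {U : Scheme.{u}} (x : U ⟶ Spec A), Van q σ (x ≫ a) ↔ ∃ z, z ≫ c = x := by
  let c : Spec (CommRingCat.of (A ⧸ J)) ⟶ Spec A := Spec.map (CommRingCat.ofHom (Ideal.Quotient.mk J))
  haveI : IsClosedImmersion c := IsClosedImmersion.spec_of_surjective _ Ideal.Quotient.mk_surjective
  have hc : Van q σ (c ≫ a) := (hJ _ _).2 (Ideal.mk_ker).ge
  refine ⟨_, c, inferInstance, fun {U} x => ⟨fun h => ?_, fun h => ?_⟩⟩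
  swap
  · obtain ⟨z, hz⟩ := h
    rw [← hz, Category.assoc]
    exact van_comp q σ z _ hc
  let 𝒰 := U.affineCover
  have hi : ∀ i, ∃ z : 𝒰.X i ⟶ Spec (CommRingCat.of (A ⧸ J)), z ≫ c = 𝒰.f i ≫ x := fun i => by
    haveI : IsAffine (𝒰.X i) := inferInstance
    obtain ⟨φ, hφ⟩ := Spec.map_surjective ((𝒰.X i).isoSpec.inv ≫ 𝒰.f i ≫ x)
    have hv : Van q σ (Spec.map (CommRingCat.ofHom φ.hom) ≫ a) := by
      rw [CommRingCat.ofHom_hom, hφ, Category.assoc, Category.assoc]
      exact van_comp q σ _ _ (van_comp q σ _ _ h)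
    have hker := (hJ _ φ.hom).1 hv
    refine ⟨(𝒰.X i).isoSpec.hom ≫ Spec.map (CommRingCat.ofHom (Ideal.Quotient.lift J φ.hom hker)), ?_⟩
    rw [Category.assoc, ← Spec.map_comp, ← CommRingCat.ofHom_comp,
      show (Ideal.Quotient.lift J φ.hom hker).comp (Ideal.Quotient.mk J) = φ.hom from rfl,
      CommRingCat.ofHom_hom, hφ, Iso.hom_inv_id_assoc]
  choose z hz using hi
  refine ⟨Scheme.Cover.glueMorphisms 𝒰 z fun i j => (cancel_mono c).1 ?_, ?_⟩
  · rw [Category.assoc, Category.assoc, hz, hz, pullback.condition_assoc]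
  · refine Scheme.Cover.hom_ext 𝒰 _ _ fun i => ?_
    rw [← Category.assoc, Scheme.Cover.ι_glueMorphisms, hz]

variable [IsAffine S]

set_option maxHeartbeats 2000000 in
/-- Around a point of an affine base the vanishing locus is given by an ideal. -/
theorem exists_near [IsProper q] [LocallyOfFinitePresentation q] [Coh.IsQCoh G] (hF : CohB1.IsFP F)
    (hFfl : FlatMod.IsFlatOver q F) (p : S) :
    ∃ (A : CommRingCat.{u}) (a : Spec A ⟶ S) (J : Ideal A), IsOpenImmersion a ∧ p ∈ Set.range a ∧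
      ∀ (T : Type u) [CommRing T] (φ : A →+* T),
        Van q σ (Spec.map (CommRingCat.ofHom φ) ≫ a) ↔ J ≤ RingHom.ker φ := by
  classical
  obtain ⟨L, _, _, _, K, hp, hK⟩ := exists_etale_content q σ hF hFfl p
  let R := Γ(S, ⊤)
  haveI : Etale (Spec.map (CommRingCat.ofHom (algebraMap R L))) :=
    (HasRingHomProperty.Spec_iff (P := @Etale)).2 (RingHom.etale_algebraMap.2 inferInstance)
  let s : Spec (CommRingCat.of L) ⟶ Spec R := Spec.map (CommRingCat.ofHom (algebraMap R L))
  obtain ⟨x, hx⟩ := hp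
  have hmem : S.isoSpec.hom p ∈ Set.range s := ⟨x, by
    rw [← hx, ← Scheme.Hom.comp_apply, Category.assoc, Iso.inv_hom_id, Category.comp_id]⟩
  obtain ⟨-, ⟨f, rfl⟩, hpf, hf⟩ :=
    PrimeSpectrum.isTopologicalBasis_basic_opens.exists_subset_of_mem_open hmem s.isOpenMap.isOpen_range
  let A := Localization.Away f
  haveI : IsOpenImmersion (Spec.map (CommRingCat.ofHom (algebraMap R A))) :=
    IsOpenImmersion.of_isLocalization f
  haveI : Module.Flat R L := inferInstance
  let C := A ⊗[R] L
  have hsq : IsPullback (Spec.map (CommRingCat.ofHom (Algebra.TensorProduct.includeLeftRingHom (R := R) (A := A) (B := L))))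
      (Spec.map (CommRingCat.ofHom (Algebra.TensorProduct.includeRight (R := R) (A := A) (B := L)).toRingHom))
      (Spec.map (CommRingCat.ofHom (algebraMap R A))) s :=
    isPullback_SpecMap_of_isPushout _ _ _ _ (CommRingCat.isPushout_tensorProduct R A L)
  haveI : Module.FaithfullyFlat A C := Module.FaithfullyFlat.of_comap_surjective fun P => by
    have hP : (Spec.map (CommRingCat.ofHom (algebraMap R A))) P ∈ Set.range s := hf (by
      have := Set.mem_range_self (f := PrimeSpectrum.comap (algebraMap R A)) P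
      rw [PrimeSpectrum.localization_away_comap_range A f] at this
      exact this)
    obtain ⟨y, hy⟩ := hP
    obtain ⟨v, hv, -⟩ := Scheme.exists_preimage_of_isPullback hsq P y hy.symm
    exact ⟨v, hv⟩
  obtain ⟨J, hJ⟩ := exists_ideal_descend (A := A) (C := C)
    (fun T _ φ => Van q σ (pt (φ.comp (algebraMap R A))))
    (fun T T' _ _ φ ψ h => by
      simp only [pt, RingHom.comp_assoc] at h ⊢
      rw [CommRingCat.ofHom_comp _ ψ, Spec.map_comp, Category.assoc]
      exact van_comp q σ _ _ h)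
    (fun T _ _ h => by
      let inc : Spec (CommRingCat.of (T ⊗[A] C)) ⟶ Spec (CommRingCat.of T) :=
        Spec.map (CommRingCat.ofHom (algebraMap T (T ⊗[A] C)))
      haveI : Flat inc := by
        rw [HasRingHomProperty.Spec_iff (P := @Flat)]
        exact (RingHom.flat_algebraMap_iff (R := T) (S := T ⊗[A] C)).2 inferInstance
      refine van_of_cover q σ (fun _ : PUnit.{u+1} => inc) (fun t => ?_) _ fun _ => ?_
      · haveI : Module.FaithfullyFlat T (T ⊗[A] C) := inferInstance
        obtain ⟨v, hv⟩ := PrimeSpectrum.comap_surjective_of_faithfullyFlat (A := T) (B := T ⊗[A] C) t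
        exact ⟨⟨⟩, v, hv⟩
      · simp only [pt, inc, ← Category.assoc, ← Spec.map_comp, ← CommRingCat.ofHom_comp, ← RingHom.comp_assoc]
        rw [← IsScalarTower.algebraMap_eq A T (T ⊗[A] C)]
        exact h)
    (K.map (Algebra.TensorProduct.includeRight (R := R) (A := A) (B := L)).toRingHom)
    fun T _ ψ => by
      have e : (ψ.comp (algebraMap A C)).comp (algebraMap R A) =
          (ψ.comp (Algebra.TensorProduct.includeRight (R := R) (A := A) (B := L)).toRingHom).comp (algebraMap R L) := by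
        ext r
        show ψ (algebraMap A C (algebraMap R A r)) =
          ψ ((Algebra.TensorProduct.includeRight (R := R) (A := A) (B := L)) (algebraMap R L r))
        rw [AlgHom.commutes, ← IsScalarTower.algebraMap_apply]
      rw [e, hK, Ideal.map_le_iff_le_comap, RingHom.comap_ker]
  refine ⟨CommRingCat.of A, pt (algebraMap R A), J, inferInstance, ?_, fun T _ φ => ?_⟩
  · have hr : S.isoSpec.hom p ∈ Set.range (PrimeSpectrum.comap (algebraMap R A)) := by
      rw [PrimeSpectrum.localization_away_comap_range A f]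
      exact hpf
    obtain ⟨v, hv⟩ := hr
    refine ⟨v, ?_⟩
    show (Spec.map (CommRingCat.ofHom (algebraMap R A)) ≫ S.isoSpec.inv) v = p
    rw [Scheme.Hom.comp_apply]
    refine (congrArg S.isoSpec.inv hv).trans ?_
    exact (Scheme.Hom.comp_apply _ _ _).symm.trans (by rw [Iso.hom_inv_id]; rfl)
  · rw [← hJ]
    simp only [pt, CommRingCat.ofHom_comp, Spec.map_comp, Category.assoc]

end Groth.L02.VanishFP

namespace Groth.L02.VanishFP

variable {Y S : Scheme.{u}} (q : Y ⟶ S) {G F : Y.Modules} (σ : G ⟶ F)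

/-- The pullback of `σ` to a part of the base. -/
theorem van_restrict_iff {V T : Scheme.{u}} (a : V ⟶ S) (g : T ⟶ V) :
    Van (pullback.snd q a) ((Scheme.Modules.pullback (pullback.fst q a)).map σ) g ↔ Van q σ (g ≫ a) := by
  have sq := (IsPullback.of_hasPullback (pullback.snd q a) g).paste_horiz (IsPullback.of_hasPullback q a)
  refine (Groth.L02.Quot.ZeroHom.map_comp_eq_zero_iff _ _ σ).symm.trans ?_
  exact Groth.L02.Quot.Vanish.map_isPullback_eq_zero_iff q σ sq

/-- The vanishing locus of a morphism into a flat module on a proper scheme is a closed subscheme. -/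
theorem exists_vanishing [IsProper q] [LocallyOfFinitePresentation q] [Coh.IsQCoh G] (hF : CohB1.IsFP F)
    (hFfl : FlatMod.IsFlatOver q F) :
    ∃ (Z : Scheme.{u}) (i : Z ⟶ S), IsClosedImmersion i ∧
      ∀ {T : Scheme.{u}} (g : T ⟶ S), Van q σ g ↔ ∃ h : T ⟶ Z, h ≫ i = g := by
  have H : ∀ p : S, ∃ (V : S.Opens) (_ : p ∈ V) (Z : Scheme.{u}) (c : Z ⟶ (V : Scheme.{u})), IsClosedImmersion c ∧
      ∀ {T : Scheme.{u}} (g : T ⟶ (V : Scheme.{u})), Van q σ (g ≫ V.ι) ↔ ∃ h, h ≫ c = g := fun p => by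
    obtain ⟨_, ⟨W, hW, rfl⟩, hpW, -⟩ :=
      S.isBasis_affineOpens.exists_subset_of_mem_open (Set.mem_univ p) isOpen_univ
    haveI : IsAffine (W : Scheme.{u}) := hW
    let W₀ : S.Opens := W
    let b := pullback.fst q W₀.ι
    haveI : Coh.IsQCoh ((Scheme.Modules.pullback b).obj G) := Groth.L16.AffineBC.isQCoh_pullback b G
    obtain ⟨A, a, J, ha, hpa, hJ⟩ := exists_near (pullback.snd q W₀.ι) ((Scheme.Modules.pullback b).map σ)
      (Groth.L19.LimMod.isFP_pullback' b F hF)
      (Groth.L29.DC.RelBC.isFlatOver_pullback (IsPullback.of_hasPullback q W₀.ι) hFfl) ⟨p, hpW⟩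
    obtain ⟨Z, c, hc, hZ⟩ := exists_closed_of_ideal q σ (a ≫ W₀.ι) J fun T _ φ => by
      rw [← hJ, van_restrict_iff, Category.assoc]
    let e := (a ≫ W₀.ι).isoOpensRange
    obtain ⟨v, hv⟩ := hpa
    refine ⟨(a ≫ W₀.ι).opensRange, ⟨v, by rw [Scheme.Hom.comp_apply, hv]; rfl⟩, Z, c ≫ e.hom, inferInstance,
      fun {T} g => ?_⟩
    have := hZ (g ≫ e.inv)
    rw [Category.assoc, Scheme.Hom.isoOpensRange_inv_comp] at this
    refine this.trans ⟨fun ⟨h, hh⟩ => ⟨h, by rw [← Category.assoc, hh, Category.assoc, e.inv_hom_id, Category.comp_id]⟩,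
      fun ⟨h, hh⟩ => ⟨h, by rw [← hh, Category.assoc, Category.assoc, e.hom_inv_id, Category.comp_id]⟩⟩
  choose V hV Z c hc hcZ using H
  obtain ⟨W, i, hi, hW⟩ := Groth.L11.Magnet.exists_closed_of_openCover (S := S) (X := Over.mk (𝟙 S))
    (fun p : S => (V p : S.Opens)) (fun p => ⟨p, hV p⟩) (fun U x => Van q σ x.left)
    (fun k x h => van_comp q σ k.left x.left h)
    (fun T' k hf _ hk x h => by
      haveI := hf
      exact van_of_cover q σ (fun a => (k a).left) hk x.left h)
    (fun p => by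
      refine ⟨Over.mk (c p ≫ (Scheme.Opens.ι (X := S) (V p)) ≫ 𝟙 S), Over.homMk (c p) rfl, hc p, fun U v => ?_⟩
      show Van q σ (v.left ≫ (V p).ι) ↔ _
      rw [hcZ p v.left]
      constructor
      · rintro ⟨j, hj⟩
        refine ⟨Over.homMk j ?_, Over.OverMorphism.ext hj⟩
        show j ≫ c p ≫ (V p).ι ≫ 𝟙 S = U.hom
        rw [← Category.assoc, hj]
        exact Over.w v
      · rintro ⟨w, hw⟩
        exact ⟨w.left, congr($(hw).left)⟩)
  refine ⟨W.left, i.left, hi, fun {T} g => ?_⟩
  refine (hW (Over.mk g) (Over.homMk g (Category.comp_id g))).trans ⟨fun ⟨w, hw⟩ => ⟨w.left, congr($(hw).left)⟩, ?_⟩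
  rintro ⟨h, hh⟩
  refine ⟨Over.homMk h ?_, Over.OverMorphism.ext hh⟩
  have hw : i.left ≫ 𝟙 S = W.hom := Over.w i
  show h ≫ W.hom = g
  rw [← hw]
  exact ((congrArg (h ≫ ·) (Category.comp_id i.left))).trans hh

end Groth.L02.VanishFP
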